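import Groth.Agent.Hensel.PunctConn
import Groth.Agent.Hensel.Fibres
import Groth.Agent.Hensel.BranchDimOne
import Groth.Agent.Hensel.Local
import Mathlib

/-! # Immediate etale generizations of the closed point -/

set_option autoImplicit false

universe u

open IsLocalRing PrimeSpectrum

namespace Groth.Agent.ImmEtGen

section

variable {R S : Type u} [CommRing R] [CommRing S] [Algebra R S]

theorem eq_of_le (hU : Groth.Agent.Hensel.UnramifiedFibres R S) {P P' : Ideal S} [P.IsPrime] [P'.IsPrime]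
    (hle : P' ≤ P) (h : P'.comap (algebraMap R S) = P.comap (algebraMap R S)) : P' = P := by
  refine le_antisymm hle fun z hz => ?_
  obtain ⟨s, hs, hsz⟩ := hU P ‹_› z hz
  refine (‹P'.IsPrime›.mem_or_mem (?_ : s * z ∈ P')).resolve_left fun h' => hs (hle h')
  exact (Ideal.map_le_iff_le_comap.2 h.ge) hsz

theorem minimal_of_comap_eq (hU : Groth.Agent.Hensel.UnramifiedFibres R S) {p : Ideal R} {P : Ideal S} [P.IsPrime]
    (h : P.comap (algebraMap R S) = p) : P ∈ (p.map (algebraMap R S)).minimalPrimes := by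
  refine ⟨⟨‹_›, Ideal.map_le_iff_le_comap.2 h.ge⟩, fun P' hP' hle => ?_⟩
  haveI := hP'.1
  refine (eq_of_le hU hle (le_antisymm (Ideal.comap_mono hle) ?_)).ge
  exact h.le.trans (Ideal.map_le_iff_le_comap.1 hP'.2)

theorem comap_eq_of_minimal [Module.Flat R S] {p : Ideal R} [p.IsPrime] {P : Ideal S}
    (hP : P ∈ (p.map (algebraMap R S)).minimalPrimes) : P.comap (algebraMap R S) = p := by
  haveI := hP.1.1
  haveI : P.LiesOver (P.comap (algebraMap R S)) := ⟨rfl⟩
  obtain ⟨P₀, hle, hP₀, hover⟩ :=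
    Ideal.exists_ideal_le_liesOver_of_le (p := p) P (Ideal.map_le_iff_le_comap.1 hP.1.2)
  have h0 : P₀.comap (algebraMap R S) = p := hover.over.symm
  rw [le_antisymm (hP.2 ⟨hP₀, Ideal.map_le_iff_le_comap.2 h0.ge⟩ hle) hle]
  exact h0

end

/-- the first criterion -/
theorem immediate_iff (A S' : Type u) [CommRing A] [IsLocalRing A] [CommRing S'] [IsLocalRing S']
    [Algebra A S'] [IsLocalHom (algebraMap A S')] [_root_.Hensel.IsStrictHenselization A S']
    (p : Ideal A) [p.IsPrime] :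
    (∃ P ∈ (p.map (algebraMap A S')).minimalPrimes, ringKrullDim (S' ⧸ P) = 1) ↔
    (∃ P : Ideal S', P.IsPrime ∧ P.comap (algebraMap A S') = p ∧ ringKrullDim (S' ⧸ P) = 1) := by
  haveI := Groth.Agent.Hensel.strictHenselization_flat A S'
  constructor
  · rintro ⟨P, hP, hd⟩
    exact ⟨P, hP.1.1, comap_eq_of_minimal hP, hd⟩
  · rintro ⟨P, hP, hc, hd⟩
    exact ⟨P, minimal_of_comap_eq (Groth.Agent.Hensel.strictHenselization_unramifiedFibres A S') hc, hd⟩

/-- a minimal prime of coheight one in a connected punctured spectrum is alone -/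
theorem eq_or_eq_maximal {R : Type u} [CommRing R] [IsLocalRing R] [IsNoetherianRing R]
    (hc : IsPreconnected ({closedPoint R}ᶜ : Set (PrimeSpectrum R))) {Q : Ideal R} (hQ : Q ∈ minimalPrimes R)
    (hne : Q ≠ maximalIdeal R) (hup : ∀ P : Ideal R, P.IsPrime → Q < P → P = maximalIdeal R)
    (P : Ideal R) (hP : P.IsPrime) : P = Q ∨ P = maximalIdeal R := by
  by_contra hcon
  rw [not_or] at hcon
  let O : Set (PrimeSpectrum R) := ⋃ M ∈ minimalPrimes R \ {Q}, zeroLocus (M : Set R)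
  have hO : IsClosed O :=
    ((minimalPrimes.finite_of_isNoetherianRing R).diff).isClosed_biUnion fun M _ => isClosed_zeroLocus _
  have hV : IsClosed (zeroLocus (Q : Set R)) := isClosed_zeroLocus _
  let q : PrimeSpectrum R := ⟨Q, hQ.1.1⟩
  have hqO : q ∉ O := by
    intro h
    simp only [O, Set.mem_iUnion, mem_zeroLocus, SetLike.coe_subset_coe] at h
    obtain ⟨M, ⟨hM, hMQ⟩, hle⟩ := h
    exact hMQ (le_antisymm hle (hQ.2 hM.1 hle))
  have hcov : ({closedPoint R}ᶜ : Set (PrimeSpectrum R)) ⊆ zeroLocus (Q : Set R) ∪ O := by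
    intro x _
    obtain ⟨M, hM, hMx⟩ := Ideal.exists_minimalPrimes_le (bot_le (a := x.asIdeal))
    by_cases h : M = Q
    · exact Or.inl (by rw [mem_zeroLocus, SetLike.coe_subset_coe]; exact h ▸ hMx)
    · exact Or.inr (Set.mem_biUnion (show M ∈ minimalPrimes R \ {Q} from ⟨hM, h⟩) (by
        rw [mem_zeroLocus, SetLike.coe_subset_coe]; exact hMx))
  have hx : (⟨P, hP⟩ : PrimeSpectrum R) ∈ ({closedPoint R}ᶜ : Set (PrimeSpectrum R)) := fun h =>
    hcon.2 (congrArg PrimeSpectrum.asIdeal h)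
  have h1 : (({closedPoint R}ᶜ : Set (PrimeSpectrum R)) ∩ zeroLocus (Q : Set R)).Nonempty :=
    ⟨q, fun h => hne (congrArg PrimeSpectrum.asIdeal h), fun _ h => h⟩
  have h2 : (({closedPoint R}ᶜ : Set (PrimeSpectrum R)) ∩ O).Nonempty := by
    refine ⟨⟨P, hP⟩, hx, (hcov hx).resolve_left fun h => ?_⟩
    rw [mem_zeroLocus, SetLike.coe_subset_coe] at h
    rcases h.lt_or_eq with h' | h'
    · exact hcon.2 (hup P hP h')
    · exact hcon.1 h'.symm
  obtain ⟨x, hx, hxQ, hxO⟩ := isPreconnected_closed_iff.1 hc _ _ hV hO hcov h1 h2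
  rw [mem_zeroLocus, SetLike.coe_subset_coe] at hxQ
  rcases hxQ.lt_or_eq with h | h
  · exact hx (PrimeSpectrum.ext (hup _ x.2 h))
  · exact hqO ((show q = x from PrimeSpectrum.ext h) ▸ hxO)

/-- the punctured spectrum of a local domain is connected -/
theorem isPreconnected_punctured_domain (R : Type u) [CommRing R] [IsDomain R] [IsLocalRing R] :
    IsPreconnected ({closedPoint R}ᶜ : Set (PrimeSpectrum R)) := by
  by_cases h : (⊥ : Ideal R) = maximalIdeal R
  · refine (Set.subsingleton_of_forall_eq (a := closedPoint R) fun x hx => ?_).isPreconnected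
    exact absurd (PrimeSpectrum.ext (((maximalIdeal.isMaximal R).eq_of_le x.2.ne_top
      (h ▸ bot_le)).symm)) hx
  · let η : PrimeSpectrum R := ⟨⊥, Ideal.isPrime_bot⟩
    refine (isPreconnected_singleton (x := η)).subset_closure ?_ fun x _ => ?_
    · exact Set.singleton_subset_iff.2 fun e => h (congrArg PrimeSpectrum.asIdeal e)
    · rw [← specializes_iff_mem_closure, ← le_iff_specializes]
      exact (bot_le : η.asIdeal ≤ x.asIdeal)

theorem ringKrullDim_le_one {R : Type u} [CommRing R] [IsLocalRing R] {Q : Ideal R}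
    (h : ∀ P : Ideal R, P.IsPrime → P = Q ∨ P = maximalIdeal R) : ringKrullDim R ≤ 1 := by
  refine Order.krullDim_le_one_iff.2 fun x => ?_
  by_contra hx
  rw [not_or, not_isMin_iff, not_isMax_iff] at hx
  obtain ⟨⟨y, hy⟩, z, hz⟩ := hx
  have hxm : x.asIdeal ≠ maximalIdeal R := fun e =>
    hz.not_ge (show z.asIdeal ≤ x.asIdeal from e ▸ le_maximalIdeal z.2.ne_top)
  have hym : y.asIdeal ≠ maximalIdeal R := fun e =>
    hy.not_ge (show x.asIdeal ≤ y.asIdeal from e ▸ le_maximalIdeal x.2.ne_top)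
  exact hy.ne (PrimeSpectrum.ext (((h _ y.2).resolve_right hym).trans ((h _ x.2).resolve_right hxm).symm))

theorem up_of_dim_le_one {S : Type u} [CommRing S] [IsLocalRing S] {Q : Ideal S} [Q.IsPrime]
    (hd : ringKrullDim (S ⧸ Q) ≤ 1) (P : Ideal S) (hP : P.IsPrime) (hlt : Q < P) : P = maximalIdeal S := by
  haveI : Ring.KrullDimLE 1 (S ⧸ Q) := Ring.krullDimLE_iff.2 hd
  have hker : RingHom.ker (Ideal.Quotient.mk Q) ≤ P := by rw [Ideal.mk_ker]; exact hlt.le
  haveI : (P.map (Ideal.Quotient.mk Q)).IsPrime := Ideal.map_isPrime_of_surjective Ideal.Quotient.mk_surjective hker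
  have hne : P.map (Ideal.Quotient.mk Q) ≠ ⊥ := fun e => hlt.not_ge (by
    rw [← Ideal.mk_ker (I := Q), ← Ideal.map_eq_bot_iff_le_ker]; exact e)
  haveI := ‹(P.map (Ideal.Quotient.mk Q)).IsPrime›.isMaximal_of_ne_bot hne
  have : ((P.map (Ideal.Quotient.mk Q)).comap (Ideal.Quotient.mk Q)).IsMaximal :=
    Ideal.comap_isMaximal_of_surjective _ Ideal.Quotient.mk_surjective
  rw [Ideal.comap_map_of_surjective' _ Ideal.Quotient.mk_surjective, sup_eq_left.2 hker] at this
  exact IsLocalRing.eq_maximalIdeal this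

theorem exists_minimalPrime_dim_one {T : Type u} [CommRing T] [IsLocalRing T] (J : Ideal T)
    (h : ringKrullDim (T ⧸ J) = 1) : ∃ Q ∈ J.minimalPrimes, ringKrullDim (T ⧸ Q) = 1 := by
  have hnot : ¬ Ring.KrullDimLE 0 (T ⧸ J) := fun hh => by
    have h0 := Ring.krullDimLE_iff.1 hh
    rw [h] at h0
    exact absurd h0 (by decide)
  obtain ⟨P, hP, hPm⟩ : ∃ P : Ideal T, P.IsPrime ∧ J ≤ P ∧ P ≠ maximalIdeal T := by
    by_contra hcon
    simp only [not_exists, not_and, not_not] at hcon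
    refine hnot (Ring.KrullDimLE.mk₀ fun I hI => ?_)
    have hle : J ≤ I.comap (Ideal.Quotient.mk J) := fun x hx => by
      rw [Ideal.mem_comap, Ideal.Quotient.eq_zero_iff_mem.2 hx]; exact I.zero_mem
    have hmax : (I.comap (Ideal.Quotient.mk J)).IsMaximal :=
      (hcon _ (Ideal.IsPrime.comap _) hle) ▸ maximalIdeal.isMaximal T
    rw [← Ideal.map_comap_of_surjective _ Ideal.Quotient.mk_surjective I]
    refine (Ideal.map_eq_top_or_isMaximal_of_surjective _ Ideal.Quotient.mk_surjective hmax).resolve_left fun e => ?_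
    rw [Ideal.map_comap_of_surjective _ Ideal.Quotient.mk_surjective I] at e
    exact hI.ne_top e
  obtain ⟨Q, hQ, hQP⟩ := Ideal.exists_minimalPrimes_le (I := J) (J := P) hPm.1
  haveI := hQ.1.1
  refine ⟨Q, hQ, le_antisymm ?_ ?_⟩
  · rw [← h]
    exact ringKrullDim_le_of_surjective (Ideal.Quotient.factor hQ.1.2) (Ideal.Quotient.factor_surjective hQ.1.2)
  · by_contra hlt
    have h0 : Ring.KrullDimLE 0 (T ⧸ Q) := Ring.krullDimLE_iff.2 (Order.le_of_lt_succ (not_le.1 hlt))
    have hmax : Q.IsMaximal := Ideal.Quotient.maximal_of_isField _ (Ring.KrullDimLE.isField_of_isDomain (R := T ⧸ Q))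
    have hQm := IsLocalRing.eq_maximalIdeal hmax
    exact hPm.2 (le_antisymm (le_maximalIdeal hP.ne_top) (hQm ▸ hQP))

section

variable {S T : Type u} [CommRing S] [CommRing T] [Algebra S T] [HenselianLocalRing S] [IsNoetherianRing S]
  [IsLocalRing T] [IsNoetherianRing T] [IsLocalHom (algebraMap S T)] [Module.FaithfullyFlat S T]

theorem dim_quotient_iff (hm : (maximalIdeal S).map (algebraMap S T) = maximalIdeal T)
    (hres : ∀ b : T, ∃ a, b - algebraMap S T a ∈ maximalIdeal T) (P : Ideal S) [P.IsPrime] :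
    ringKrullDim (S ⧸ P) = 1 ↔
      ∃ Q ∈ (P.map (algebraMap S T)).minimalPrimes, ringKrullDim (T ⧸ Q) = 1 := by
  let J := P.map (algebraMap S T)
  have hJ : J ≤ maximalIdeal T := (Ideal.map_mono (le_maximalIdeal ‹P.IsPrime›.ne_top)).trans hm.le
  haveI : Nontrivial (T ⧸ J) := Ideal.Quotient.nontrivial_iff.2 (ne_top_of_le_ne_top (maximalIdeal.isMaximal T).ne_top hJ)
  haveI : IsLocalRing (T ⧸ J) := .of_surjective' (Ideal.Quotient.mk J) Ideal.Quotient.mk_surjective
  haveI : IsLocalRing (S ⧸ P) := .of_surjective' (Ideal.Quotient.mk P) Ideal.Quotient.mk_surjective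
  haveI : HenselianLocalRing (S ⧸ P) := Groth.Agent.Hensel.henselianLocalRing_finite S (S ⧸ P)
  letI : Algebra (S ⧸ P) (T ⧸ J) := inferInstanceAs (Algebra (S ⧸ P) (T ⧸ P.map (algebraMap S T)))
  have halg : ∀ s, algebraMap (S ⧸ P) (T ⧸ J) (Ideal.Quotient.mk P s) = Ideal.Quotient.mk J (algebraMap S T s) :=
    fun s => rfl
  haveI : Module.Flat (S ⧸ P) (T ⧸ J) :=
    Module.Flat.of_linearEquiv (Algebra.TensorProduct.quotIdealMapEquivQuotTensor T P).toLinearEquiv
  have hcomp : (algebraMap (S ⧸ P) (T ⧸ J)).comp (Ideal.Quotient.mk P) = (Ideal.Quotient.mk J).comp (algebraMap S T) :=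
    RingHom.ext halg
  haveI hmk : IsLocalHom (Ideal.Quotient.mk J) := IsLocalHom.of_surjective _ Ideal.Quotient.mk_surjective
  have hmaxJ : (maximalIdeal T).map (Ideal.Quotient.mk J) = maximalIdeal (T ⧸ J) :=
    map_maximalIdeal_of_surjective _ Ideal.Quotient.mk_surjective
  have hmaxP : (maximalIdeal S).map (Ideal.Quotient.mk P) = maximalIdeal (S ⧸ P) :=
    map_maximalIdeal_of_surjective _ Ideal.Quotient.mk_surjective
  have hm' : (maximalIdeal (S ⧸ P)).map (algebraMap (S ⧸ P) (T ⧸ J)) = maximalIdeal (T ⧸ J) := by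
    rw [← hmaxP, Ideal.map_map, hcomp, ← Ideal.map_map, hm, hmaxJ]
  haveI : IsLocalHom (algebraMap (S ⧸ P) (T ⧸ J)) := ((local_hom_TFAE _).out 2 0).1 hm'.le
  haveI : Module.FaithfullyFlat (S ⧸ P) (T ⧸ J) := Module.FaithfullyFlat.of_flat_of_isLocalHom
  have hres' : ∀ b : T ⧸ J, ∃ a, b - algebraMap (S ⧸ P) (T ⧸ J) a ∈ maximalIdeal (T ⧸ J) := fun b => by
    obtain ⟨b, rfl⟩ := Ideal.Quotient.mk_surjective b
    obtain ⟨a, ha⟩ := hres b
    exact ⟨Ideal.Quotient.mk P a, by rw [halg, ← map_sub, ← hmaxJ]; exact Ideal.mem_map_of_mem _ ha⟩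
  have hdim : ringKrullDim (T ⧸ J) = ringKrullDim (S ⧸ P) :=
    Groth.Agent.Hensel.ringKrullDim_eq_of_map_maximalIdeal hm'
  have hquot : ∀ Q : Ideal T, J ≤ Q → ringKrullDim (T ⧸ Q) = ringKrullDim ((T ⧸ J) ⧸ Q.map (Ideal.Quotient.mk J)) :=
    fun Q hQ => ringKrullDim_eq_of_ringEquiv (DoubleQuot.quotQuotEquivQuotOfLE hQ).symm
  constructor
  · intro h
    by_contra hcon
    simp only [not_exists, not_and] at hcon
    -- the maximum of the coheights of the minimal primes is the dimension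
    obtain ⟨Q, hQ, hQd⟩ : ∃ Q ∈ J.minimalPrimes, ringKrullDim (T ⧸ Q) = 1 := by
      exact exists_minimalPrime_dim_one J (hdim.trans h)
    exact hcon Q hQ hQd
  · rintro ⟨Q, hQ, hQd⟩
    haveI := hQ.1.1
    haveI : (Q.map (Ideal.Quotient.mk J)).IsPrime :=
      Ideal.map_isPrime_of_surjective Ideal.Quotient.mk_surjective (by rw [Ideal.mk_ker]; exact hQ.1.2)
    have hd' : ringKrullDim ((T ⧸ J) ⧸ Q.map (Ideal.Quotient.mk J)) = 1 := (hquot Q hQ.1.2).symm.trans hQd
    refine le_antisymm ?_ ?_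
    · rw [← hdim]
      have hmin : Q.map (Ideal.Quotient.mk J) ∈ minimalPrimes (T ⧸ J) := by
        have := Ideal.minimalPrimes_map_of_surjective (f := Ideal.Quotient.mk J) Ideal.Quotient.mk_surjective ⊥
        refine ⟨⟨inferInstance, bot_le⟩, fun P' hP' hle => ?_⟩
        haveI := hP'.1
        have h1 : J ≤ P'.comap (Ideal.Quotient.mk J) := by
          intro x hx; rw [Ideal.mem_comap, Ideal.Quotient.eq_zero_iff_mem.2 hx]; exact P'.zero_mem
        have h2 : P'.comap (Ideal.Quotient.mk J) ≤ Q := by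
          refine (Ideal.comap_mono hle).trans ?_
          rw [Ideal.comap_map_of_surjective' _ Ideal.Quotient.mk_surjective, Ideal.mk_ker]
          exact sup_le le_rfl hQ.1.2
        rw [Ideal.map_le_iff_le_comap]
        exact hQ.2 ⟨Ideal.IsPrime.comap _, h1⟩ h2
      have hne : Q.map (Ideal.Quotient.mk J) ≠ maximalIdeal (T ⧸ J) := fun e => by
        have hfield : ringKrullDim ((T ⧸ J) ⧸ Q.map (Ideal.Quotient.mk J)) = 0 := by
          haveI : (Q.map (Ideal.Quotient.mk J)).IsMaximal := e ▸ maximalIdeal.isMaximal _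
          letI := Ideal.Quotient.field (Q.map (Ideal.Quotient.mk J))
          exact ringKrullDim_eq_zero_of_field _
        rw [hd'] at hfield
        exact one_ne_zero hfield
      refine ringKrullDim_le_one (fun P' hP' => eq_or_eq_maximal ?_ hmin hne (up_of_dim_le_one hd'.le) P' hP')
      exact (Groth.Agent.Hensel.isPreconnected_punctured_iff hm' hres').2 (isPreconnected_punctured_domain _)
    · rw [← hdim, ← hd']
      exact ringKrullDim_le_of_surjective _ Ideal.Quotient.mk_surjective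

end

end Groth.Agent.ImmEtGen
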