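import Groth.Agent.ImmEtGen.Basic
import Groth.Agent.Hensel.Henselization
import Mathlib

/-! # Immediate etale generizations and completion -/

set_option autoImplicit false

universe u

open IsLocalRing

namespace Groth.Agent.ImmEtGen

theorem exists_map (A S' Ah T' : Type u) [CommRing A] [IsLocalRing A] [CommRing S'] [IsLocalRing S']
    [Algebra A S'] [IsLocalHom (algebraMap A S')] [_root_.Hensel.IsStrictHenselization A S']
    [CommRing Ah] [IsLocalRing Ah] [Algebra A Ah] [IsLocalHom (algebraMap A Ah)]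
    (hbij : Function.Bijective (ResidueField.map (algebraMap A Ah))) [Module.Flat A Ah]
    (hmA : (maximalIdeal A).map (algebraMap A Ah) = maximalIdeal Ah)
    [CommRing T'] [IsLocalRing T'] [Algebra Ah T'] [IsLocalHom (algebraMap Ah T')]
    [_root_.Hensel.IsStrictHenselization Ah T'] :
    ∃ g : S' →+* T', g.comp (algebraMap A S') = (algebraMap Ah T').comp (algebraMap A Ah) ∧
      IsLocalHom g ∧ g.Flat ∧ (maximalIdeal S').map g = maximalIdeal T' ∧
      ∀ b : T', ∃ a, b - g a ∈ maximalIdeal T' := by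
  let f : A →+* T' := (algebraMap Ah T').comp (algebraMap A Ah)
  haveI : IsLocalHom f := RingHom.isLocalHom_comp _ _
  haveI := _root_.Hensel.IsStrictHenselization.henselian (R := Ah) (S := T')
  letI : Algebra (ResidueField A) (ResidueField T') := (ResidueField.map f).toAlgebra
  haveI hS := _root_.Hensel.IsStrictHenselization.isSepClosure (R := A) (S := S')
  haveI hT := _root_.Hensel.IsStrictHenselization.isSepClosure (R := Ah) (S := T')
  letI : Algebra (ResidueField A) (ResidueField Ah) := (ResidueField.map (algebraMap A Ah)).toAlgebra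
  haveI : IsScalarTower (ResidueField A) (ResidueField Ah) (ResidueField T') := .of_algebraMap_eq fun x => by
    show ResidueField.map f x = _
    obtain ⟨x, rfl⟩ := residue_surjective x
    rfl
  haveI : Algebra.IsSeparable (ResidueField A) (ResidueField Ah) := ⟨fun x => by
    obtain ⟨y, rfl⟩ := hbij.2 x
    exact isSeparable_algebraMap (K := ResidueField Ah) y⟩
  haveI := hT.separable
  haveI : IsSepClosure (ResidueField A) (ResidueField T') :=
    ⟨hT.sep_closed, Algebra.IsSeparable.trans (ResidueField A) (ResidueField Ah) (ResidueField T')⟩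
  let τ := IsSepClosure.equiv (ResidueField A) (ResidueField S') (ResidueField T')
  obtain ⟨g, ⟨hg, hgr⟩, -⟩ := _root_.Hensel.IsStrictHenselization.universal (R := A) (S := S') T' f
    τ.toAlgHom.toRingHom (RingHom.ext fun x => τ.commutes x)
  have hm : (maximalIdeal S').map g = maximalIdeal T' := by
    rw [← Groth.Agent.Hensel.strictHenselization_map_maximalIdeal A S', Ideal.map_map, hg,
      ← Ideal.map_map, hmA, Groth.Agent.Hensel.strictHenselization_map_maximalIdeal Ah T']
  refine ⟨g, hg, ((local_hom_TFAE g).out 2 0).1 hm.le, ?_, hm, fun b => ?_⟩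
  · refine Groth.Agent.Hensel.flat_of_strictHenselization (A := A) g ?_
    rw [hg]
    haveI := Groth.Agent.Hensel.strictHenselization_flat Ah T'
    exact RingHom.Flat.comp (RingHom.flat_algebraMap_iff.2 ‹Module.Flat A Ah›) (RingHom.flat_algebraMap_iff.2 ‹Module.Flat Ah T'›)
  · obtain ⟨c, hc⟩ := τ.surjective (residue T' b)
    obtain ⟨a, rfl⟩ := residue_surjective c
    refine ⟨a, ?_⟩
    rw [← residue_eq_zero_iff, map_sub, hgr, sub_eq_zero]
    exact hc.symm

theorem immediate_ext_iff (A S' Ah T' : Type u) [CommRing A] [IsLocalRing A] [IsNoetherianRing A]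
    [CommRing S'] [IsLocalRing S'] [Algebra A S'] [IsLocalHom (algebraMap A S')]
    [_root_.Hensel.IsStrictHenselization A S']
    [CommRing Ah] [IsLocalRing Ah] [IsNoetherianRing Ah] [Algebra A Ah] [IsLocalHom (algebraMap A Ah)]
    (hbij : Function.Bijective (ResidueField.map (algebraMap A Ah))) [Module.Flat A Ah]
    (hmA : (maximalIdeal A).map (algebraMap A Ah) = maximalIdeal Ah)
    [CommRing T'] [IsLocalRing T'] [Algebra Ah T'] [IsLocalHom (algebraMap Ah T')]
    [_root_.Hensel.IsStrictHenselization Ah T'] (p : Ideal A) [p.IsPrime] :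
    (∃ P ∈ (p.map (algebraMap A S')).minimalPrimes, ringKrullDim (S' ⧸ P) = 1) ↔
    (∃ q ∈ (p.map (algebraMap A Ah)).minimalPrimes,
      ∃ Q ∈ (q.map (algebraMap Ah T')).minimalPrimes, ringKrullDim (T' ⧸ Q) = 1) := by
  obtain ⟨g, hg, hloc, hflat, hm, hres⟩ := exists_map A S' Ah T' hbij hmA
  letI := g.toAlgebra
  haveI : IsLocalHom (algebraMap S' T') := hloc
  haveI : Module.Flat S' T' := hflat
  haveI : Module.FaithfullyFlat S' T' := Module.FaithfullyFlat.of_flat_of_isLocalHom
  haveI := _root_.Hensel.IsStrictHenselization.henselian (R := A) (S := S')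
  haveI := Groth.Agent.Hensel.strictHenselization_flat A S'
  haveI := Groth.Agent.Hensel.strictHenselization_flat Ah T'
  haveI : IsNoetherianRing S' := (Groth.Agent.Hensel.strictHenselization_isNoetherianRing_iff A S').1 inferInstance
  haveI : IsNoetherianRing T' := (Groth.Agent.Hensel.strictHenselization_isNoetherianRing_iff Ah T').1 inferInstance
  have hUS := Groth.Agent.Hensel.strictHenselization_unramifiedFibres A S'
  have hUT := Groth.Agent.Hensel.strictHenselization_unramifiedFibres Ah T'
  have key : ∀ Q : Ideal T', (Q.comap g).comap (algebraMap A S') =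
      (Q.comap (algebraMap Ah T')).comap (algebraMap A Ah) := fun Q => by
    rw [Ideal.comap_comap, hg, ← Ideal.comap_comap]
  constructor
  · rintro ⟨P, hP, hd⟩
    haveI := hP.1.1
    have hPA := comap_eq_of_minimal hP
    obtain ⟨Q, hQ, hQd⟩ := (dim_quotient_iff hm hres P).1 hd
    haveI := hQ.1.1
    have hQP : Q.comap g = P := comap_eq_of_minimal hQ
    refine ⟨Q.comap (algebraMap Ah T'), ⟨⟨inferInstance, ?_⟩, fun q' hq' hle => ?_⟩,
      Q, minimal_of_comap_eq hUT rfl, hQd⟩
    · rw [Ideal.map_le_iff_le_comap, ← key, hQP, hPA]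
    haveI := hq'.1
    haveI : Q.LiesOver (Q.comap (algebraMap Ah T')) := ⟨rfl⟩
    obtain ⟨Q', hle', hQ', hover⟩ := Ideal.exists_ideal_le_liesOver_of_le (p := q') Q hle
    have h0 : Q'.comap (algebraMap Ah T') = q' := hover.over.symm
    have h1 : Q'.comap g ≤ P := (Ideal.comap_mono hle').trans hQP.le
    have h2 : Q'.comap g = P := eq_of_le hUS h1 (le_antisymm (Ideal.comap_mono h1) (by
      rw [hPA, key, h0]; exact Ideal.map_le_iff_le_comap.1 hq'.2))
    have h3 : Q ≤ Q' := hQ.2 ⟨hQ', Ideal.map_le_iff_le_comap.2 h2.ge⟩ hle'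
    exact h0 ▸ Ideal.comap_mono h3
  · rintro ⟨q, hq, Q, hQ, hQd⟩
    haveI := hq.1.1
    haveI := hQ.1.1
    have hQq : Q.comap (algebraMap Ah T') = q := comap_eq_of_minimal hQ
    have hPA : (Q.comap g).comap (algebraMap A S') = p := by rw [key, hQq, comap_eq_of_minimal hq]
    refine ⟨Q.comap g, minimal_of_comap_eq hUS hPA, (dim_quotient_iff hm hres (Q.comap g)).2 ⟨Q, ⟨⟨inferInstance, Ideal.map_comap_le⟩, fun Q' hQ' hle => ?_⟩, hQd⟩⟩
    haveI := hQ'.1
    refine (eq_of_le hUT hle (le_antisymm (Ideal.comap_mono hle) ?_)).ge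
    rw [hQq]
    refine hq.2 ⟨Ideal.IsPrime.comap _, ?_⟩ ((Ideal.comap_mono hle).trans hQq.le)
    rw [Ideal.map_le_iff_le_comap, ← key, ← hPA]
    exact Ideal.comap_mono (Ideal.map_le_iff_le_comap.1 hQ'.2)

end Groth.Agent.ImmEtGen
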